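import Groth.Agent.L05.DecompHensel.Main

/-! # The subgroup generated by automorphisms preserving a prime -/

set_option autoImplicit false

universe u

namespace Groth.L05.DecompHensel

variable (R K Ks : Type u) [CommRing R] [Field K] [Algebra R K] [Field Ks] [Algebra K Ks] [Algebra R Ks]
  [IsScalarTower R K Ks]

theorem mem_integralClosure_apply (σ : Ks ≃ₐ[K] Ks) (x : integralClosure R Ks) :
    σ (x : Ks) ∈ integralClosure R Ks :=
  x.2.map (σ.toAlgHom.restrictScalars R)

theorem closure_preserves (Ps : Ideal (integralClosure R Ks)) [Ps.IsMaximal] (T : Set (Ks ≃ₐ[K] Ks))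
    (hT : ∀ σ ∈ T, ∀ x : integralClosure R Ks, x ∈ Ps →
      (⟨σ (x : Ks), mem_integralClosure_apply R K Ks σ x⟩ : integralClosure R Ks) ∈ Ps) :
    ∀ σ ∈ Subgroup.closure T, ∀ x : integralClosure R Ks, x ∈ Ps →
      ∀ h : σ (x : Ks) ∈ integralClosure R Ks, (⟨σ (x : Ks), h⟩ : integralClosure R Ks) ∈ Ps := by
  have hiff : ∀ σ ∈ T, ∀ x : integralClosure R Ks,
      (⟨σ (x : Ks), mem_integralClosure_apply R K Ks σ x⟩ : integralClosure R Ks) ∈ Ps ↔ x ∈ Ps := by
    intro σ hσ x
    let σS : integralClosure R Ks →+* integralClosure R Ks :=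
      { toFun := fun x => ⟨σ x, mem_integralClosure_apply R K Ks σ x⟩
        map_one' := Subtype.ext (map_one σ)
        map_mul' := fun x y => Subtype.ext (map_mul σ _ _)
        map_zero' := Subtype.ext (map_zero σ)
        map_add' := fun x y => Subtype.ext (map_add σ _ _) }
    have h : Ps = Ps.comap σS := Ideal.IsMaximal.eq_of_le inferInstance
      (Ideal.comap_ne_top _ (Ideal.IsMaximal.ne_top inferInstance)) fun y hy => hT σ hσ y hy
    exact ⟨fun hx => by rw [h]; exact hx, fun hx => hT σ hσ x hx⟩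
  have key : ∀ σ ∈ Subgroup.closure T, ∀ x : integralClosure R Ks,
      (⟨σ (x : Ks), mem_integralClosure_apply R K Ks σ x⟩ : integralClosure R Ks) ∈ Ps ↔ x ∈ Ps := by
    intro σ hσ
    induction hσ using Subgroup.closure_induction with
    | mem σ hσ => exact hiff σ hσ
    | one => exact fun x => Iff.rfl
    | mul σ τ _ _ h₁ h₂ => exact fun x => (h₁ ⟨τ x, mem_integralClosure_apply R K Ks τ x⟩).trans (h₂ x)
    | inv σ _ h =>
      intro x
      have := h ⟨σ⁻¹ x, mem_integralClosure_apply R K Ks σ⁻¹ x⟩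
      rw [← this]
      exact iff_of_eq (congrArg (· ∈ Ps) (Subtype.ext (σ.apply_symm_apply (x : Ks))))
  exact fun σ hσ x hx _ => (key σ hσ x).mpr hx

end Groth.L05.DecompHensel
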