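import Mathlib.RingTheory.Henselian
import Mathlib.RingTheory.Polynomial.GaussLemma
import Mathlib.RingTheory.Localization.Integral
import Mathlib.RingTheory.Localization.AtPrime.Basic
import Mathlib.RingTheory.IntegralClosure.IntegrallyClosed
import Mathlib.RingTheory.DiscreteValuationRing.Basic
import Mathlib.FieldTheory.IsSepClosed
import Mathlib.FieldTheory.Galois.Basic
import Mathlib.FieldTheory.Minpoly.IsIntegrallyClosed

/-! # The decomposition field gives a henselian local ring -/

set_option autoImplicit false
set_option linter.style.haveILetI false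

universe u

open Polynomial IsLocalRing

noncomputable section

namespace Groth.L05.DecompHensel

variable (R K Ks : Type u) [CommRing R] [IsDomain R] [IsDiscreteValuationRing R] [Field K] [Algebra R K]
  [IsFractionRing R K] [Field Ks] [Algebra K Ks] [IsSepClosure K Ks] [Algebra R Ks] [IsScalarTower R K Ks]

theorem result (Ps : Ideal (integralClosure R Ks)) [Ps.IsMaximal] (H : Subgroup (Ks ≃ₐ[K] Ks))
    (hH : ∀ σ ∈ H, ∀ x : integralClosure R Ks, x ∈ Ps →
      ∀ h : σ (x : Ks) ∈ integralClosure R Ks, (⟨σ (x : Ks), h⟩ : integralClosure R Ks) ∈ Ps)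
    (L : IntermediateField K Ks) (hL : L = IntermediateField.fixedField H)
    (Q : Ideal (integralClosure R L)) [Q.IsPrime]
    (hQ : ∀ y : integralClosure R L, y ∈ Q ↔
      ∃ x : integralClosure R Ks, x ∈ Ps ∧ (x : Ks) = ((y : L) : Ks)) :
    HenselianLocalRing (Localization.AtPrime Q) := by
  classical
  let S := integralClosure R Ks
  let O := integralClosure R L
  let A := Localization.AtPrime Q
  let B := Localization.AtPrime Ps
  haveI : Algebra.IsAlgebraic K Ks := (IsSepClosure.separable (K := Ks)).isAlgebraic
  haveI : IsSepClosed Ks := IsSepClosure.sep_closed K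
  haveI : Algebra.IsAlgebraic K L := inferInstance
  haveI : Algebra.IsAlgebraic R L := (IsFractionRing.comap_isAlgebraic_iff (A := R) (K := K)).mpr inferInstance
  have hRL : Function.Injective (algebraMap R L) := by
    rw [IsScalarTower.algebraMap_eq R K L]
    exact (algebraMap K L).injective.comp (IsFractionRing.injective R K)
  haveI : IsFractionRing O L := integralClosure.isFractionRing_of_algebraic fun x hx => hRL (hx.trans (map_zero _).symm)
  haveI : IsIntegrallyClosed O := isIntegrallyClosed_iff L |>.mpr fun {x} hx =>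
    ⟨⟨x, isIntegral_trans (R := R) (A := O) x hx⟩, rfl⟩
  haveI : IsDomain A := IsLocalization.isDomain_localization Q.primeCompl_le_nonZeroDivisors
  haveI : IsIntegrallyClosed A := isIntegrallyClosed_of_isLocalization A Q.primeCompl Q.primeCompl_le_nonZeroDivisors
  -- maps
  have hOL : Q.primeCompl ≤ (nonZeroDivisors L).comap (algebraMap O L) := fun s hs =>
    mem_nonZeroDivisors_of_ne_zero fun h => hs (by
      rw [show s = 0 from Subtype.ext h]; exact Q.zero_mem)
  letI : Algebra A L := (IsLocalization.lift (M := Q.primeCompl) (g := algebraMap O L)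
    fun s => isUnit_iff_ne_zero.mpr (nonZeroDivisors.ne_zero (hOL s.2))).toAlgebra
  haveI : IsScalarTower O A L := IsScalarTower.of_algebraMap_eq fun x => (IsLocalization.lift_eq _ x).symm
  haveI : IsFractionRing A L := IsFractionRing.isFractionRing_of_isDomain_of_isLocalization Q.primeCompl A L
  let ιO : O →+* S :=
    { toFun := fun x => ⟨((x : L) : Ks), x.2.map ((IntermediateField.val L).restrictScalars R)⟩
      map_one' := rfl
      map_mul' := fun _ _ => rfl
      map_zero' := rfl
      map_add' := fun _ _ => rfl }
  have hQcomap : Q = Ps.comap ιO := by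
    ext y
    rw [hQ, Ideal.mem_comap]
    exact ⟨fun ⟨x, hx, hxy⟩ => (show x = ιO y from Subtype.ext hxy) ▸ hx, fun h => ⟨_, h, rfl⟩⟩
  let j : A →+* B := Localization.localRingHom Q Ps ιO hQcomap
  haveI : IsLocalHom j := Localization.isLocalHom_localRingHom _ _ _ _
  have hPsu : ∀ s : Ps.primeCompl, IsUnit (algebraMap S Ks s) := fun s => isUnit_iff_ne_zero.mpr
    fun h => s.2 (by rw [show (s : S) = 0 from Subtype.ext h]; exact Ps.zero_mem)
  let φ : B →+* Ks := IsLocalization.lift hPsu
  have hφ : Function.Injective φ := by
    refine (IsLocalization.lift_injective_iff hPsu).mpr fun x y => ⟨fun h => ?_, fun h => ?_⟩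
    · exact congrArg _ (IsLocalization.injective B Ps.primeCompl_le_nonZeroDivisors h)
    · exact congrArg _ (Subtype.val_injective h)
  have hφj : ∀ a : A, φ (j a) = (algebraMap A L a : L) := by
    have : φ.comp j = (algebraMap L Ks).comp (algebraMap A L) := by
      refine IsLocalization.ringHom_ext Q.primeCompl (RingHom.ext fun x => ?_)
      simp only [RingHom.comp_apply]
      rw [Localization.localRingHom_to_map, IsLocalization.lift_eq, ← IsScalarTower.algebraMap_apply O A L]
      rfl
    exact fun a => RingHom.congr_fun this a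
  have hjint : ∀ z : Ks, (∃ g : A[X], g.Monic ∧ g.eval₂ ((algebraMap L Ks).comp (algebraMap A L)) z = 0) →
      ∃ b : B, φ b = z := by
    rintro z ⟨g, hg, hgz⟩
    letI : Algebra A Ks := ((algebraMap L Ks).comp (algebraMap A L)).toAlgebra
    haveI : IsScalarTower O A Ks := IsScalarTower.of_algebraMap_eq fun x => by
      show algebraMap L Ks (algebraMap O L x) = algebraMap L Ks (algebraMap A L (algebraMap O A x))
      rw [← IsScalarTower.algebraMap_apply O A L]
    obtain ⟨⟨t, ht⟩, htz⟩ := IsIntegral.exists_multiple_integral_of_isLocalization Q.primeCompl z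
      (⟨g, hg, hgz⟩ : IsIntegral A z)
    haveI : IsScalarTower R O Ks := IsScalarTower.of_algebraMap_eq fun r => rfl
    have hint : IsIntegral R (t • z) := isIntegral_trans (R := R) (A := O) _ htz
    have hts : ιO t ∈ Ps.primeCompl := fun h => ht (by rw [hQcomap]; exact h)
    refine ⟨IsLocalization.mk' B ⟨t • z, hint⟩ ⟨ιO t, hts⟩, ?_⟩
    show IsLocalization.lift hPsu _ = z
    rw [IsLocalization.lift_mk'_spec]
    show t • z = _
    rw [Algebra.smul_def]
    rfl
  refine { is_henselian := fun f => ?_ }
  induction hn : f.natDegree using Nat.strong_induction_on generalizing f with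
  | _ n ih =>
    subst hn
    intro hf a₀ ha hd
    have hfne : f ≠ 1 := fun h => by
      rw [h, derivative_one, eval_zero] at hd
      exact not_isUnit_zero hd
    by_cases hirr : Irreducible f
    swap
    · rw [hf.irreducible_iff_natDegree] at hirr
      push Not at hirr
      obtain ⟨p, q, hp, hq, hpq, hpd, hqd⟩ := hirr hfne
      subst hpq
      have hdeg := hp.natDegree_mul hq
      have hd' : IsUnit (p.derivative.eval a₀ * q.eval a₀ + p.eval a₀ * q.derivative.eval a₀) := by
        simpa [derivative_mul] using hd
      rcases (maximalIdeal.isMaximal A).isPrime.mem_or_mem (by simpa using ha) with h | h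
      · obtain ⟨a, har, haa⟩ := ih p.natDegree (by omega) p rfl hp a₀ h (by
          by_contra hu
          exact (mem_maximalIdeal _).mp (add_mem (Ideal.mul_mem_right _ _ ((mem_maximalIdeal _).mpr hu))
            (Ideal.mul_mem_right _ _ h)) hd')
        exact ⟨a, by rw [IsRoot, eval_mul, har.eq_zero, zero_mul], haa⟩
      · obtain ⟨a, har, haa⟩ := ih q.natDegree (by omega) q rfl hq a₀ h (by
          by_contra hu
          exact (mem_maximalIdeal _).mp (add_mem (Ideal.mul_mem_left _ _ h)
            (Ideal.mul_mem_left _ _ ((mem_maximalIdeal _).mpr hu))) hd')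
        exact ⟨a, by rw [IsRoot, eval_mul, har.eq_zero, mul_zero], haa⟩
    have hfL : Irreducible (f.map (algebraMap A L)) :=
      (hf.irreducible_iff_irreducible_map_fraction_map (K := L)).mp hirr
    have hsep : (f.map (algebraMap A L)).Separable := by
      rw [separable_iff_derivative_ne_zero hfL, derivative_map]
      intro h
      rw [Polynomial.map_eq_zero_iff (IsFractionRing.injective A L)] at h
      rw [h, eval_zero] at hd
      exact not_isUnit_zero hd
    set fs := f.map ((algebraMap L Ks).comp (algebraMap A L)) with hfs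
    have hsplit : fs.Splits := by
      rw [hfs, ← Polynomial.map_map]
      exact IsSepClosed.splits_of_separable _ (hsep.map)
    have hroot : ∀ z ∈ fs.roots, ∃ b : B, φ b = z := fun z hz => hjint z ⟨f, hf, by
      rw [← eval_map]; exact (mem_roots'.mp hz).2⟩
    choose lift hlift using hroot
    let m : Multiset B := fs.roots.attach.map fun z : {x // x ∈ fs.roots} => lift z.1 z.2
    have hfB : f.map j = (m.map fun b => X - C b).prod := by
      apply map_injective φ hφ
      rw [Polynomial.map_map, Polynomial.map_multiset_prod, Multiset.map_map]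
      have h1 : φ.comp j = (algebraMap L Ks).comp (algebraMap A L) := RingHom.ext hφj
      rw [h1, ← hfs, hsplit.eq_prod_roots_of_monic (hf.map _)]
      congr 1
      simp only [m, Multiset.map_map]
      conv_lhs => rw [← Multiset.attach_map_val fs.roots, Multiset.map_map]
      refine Multiset.map_congr rfl fun z _ => ?_
      simp [hlift]
    let π := residue B
    let ā := π (j a₀)
    have hfk : f.map (π.comp j) = (m.map fun b => X - C (π b)).prod := by
      rw [← Polynomial.map_map, hfB, Polynomial.map_multiset_prod, Multiset.map_map]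
      congr 1
      exact Multiset.map_congr rfl fun b _ => by simp
    have hev : (f.map (π.comp j)).eval ā = 0 := by
      rw [show ā = (π.comp j) a₀ from rfl, eval_map, eval₂_hom]
      exact (residue_eq_zero_iff _).mpr ((mem_maximalIdeal _).mpr fun h =>
        (mem_maximalIdeal _).mp ha (isUnit_of_map_unit j _ h))
    obtain ⟨b₀, hb₀m, hb₀⟩ : ∃ b ∈ m, π b = ā := by
      rw [hfk, eval_multiset_prod, Multiset.map_map] at hev
      obtain ⟨b, hb, hb0⟩ := Multiset.mem_map.mp (Multiset.prod_eq_zero_iff.mp hev)
      refine ⟨b, hb, ?_⟩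
      have h' : (0 : ResidueField B) = ā - π b := by simpa using hb0.symm
      exact (sub_eq_zero.mp h'.symm).symm
    -- stability under `H`
    have hstab : ∀ σ ∈ H, ∀ b : B, ∀ a : A, π b = π (j a) → ∀ b' : B, φ b' = σ (φ b) → π b' = π (j a) := by
      intro σ hσ b a hb b' hb'
      let σS : S →+* S :=
        { toFun := fun x => ⟨σ x, x.2.map (σ.toAlgHom.restrictScalars R)⟩
          map_one' := Subtype.ext (map_one σ)
          map_mul' := fun x y => Subtype.ext (map_mul σ _ _)
          map_zero' := Subtype.ext (map_zero σ)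
          map_add' := fun x y => Subtype.ext (map_add σ _ _) }
      have hcomap : Ps = Ps.comap σS := by
        refine Ideal.IsMaximal.eq_of_le inferInstance ?_ fun x hx => hH σ hσ x hx _
        exact Ideal.comap_ne_top _ (Ideal.IsMaximal.ne_top inferInstance)
      let σB : B →+* B := Localization.localRingHom Ps Ps σS hcomap
      haveI : IsLocalHom σB := Localization.isLocalHom_localRingHom _ _ _ _
      have hc : ∀ z : B, φ (σB z) = σ (φ z) := by
        have : φ.comp σB = (σ.toAlgHom.toRingHom).comp φ := by
          refine IsLocalization.ringHom_ext Ps.primeCompl (RingHom.ext fun x => ?_)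
          simp only [RingHom.comp_apply]
          rw [Localization.localRingHom_to_map, IsLocalization.lift_eq, IsLocalization.lift_eq]
          rfl
        exact fun z => RingHom.congr_fun this z
      have hfix : σB (j a) = j a := hφ (by
        rw [hc, hφj]
        have h1 : ((algebraMap A L a : L) : Ks) ∈ IntermediateField.fixedField H := hL ▸ (algebraMap A L a).2
        exact (IntermediateField.mem_fixedField_iff H _).mp h1 σ hσ)
      have hb'' : b' = σB b := hφ (by rw [hb', hc])
      rw [hb'', ← ResidueField.map_residue σB b, hb, ResidueField.map_residue, hfix]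
    -- the orbit polynomial
    have hρ : φ b₀ ∈ fs.roots := by
      obtain ⟨z, -, rfl⟩ := Multiset.mem_map.mp hb₀m
      rw [hlift]; exact z.2
    let O' : Finset Ks := fs.roots.toFinset.filter fun z => ∃ σ ∈ H, σ (φ b₀) = z
    have hσroot : ∀ σ ∈ H, ∀ z ∈ fs.roots, σ z ∈ fs.roots := by
      intro σ hσ z hz
      rw [mem_roots'] at hz ⊢
      refine ⟨hz.1, ?_⟩
      have h1 : fs.map (σ.toAlgHom.toRingHom) = fs := by
        rw [hfs, Polynomial.map_map]
        congr 1
        ext a
        have h1 : ((algebraMap A L a : L) : Ks) ∈ IntermediateField.fixedField H := hL ▸ (algebraMap A L a).2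
        exact (IntermediateField.mem_fixedField_iff H _).mp h1 σ hσ
      show fs.eval (σ z) = 0
      rw [show σ z = σ.toAlgHom.toRingHom z from rfl]
      conv_lhs => rw [← h1]
      rw [eval_map, eval₂_hom, hz.2.eq_zero, map_zero]
    have hstabO : ∀ σ ∈ H, ∀ z ∈ O', σ z ∈ O' := by
      intro σ hσ z hz
      obtain ⟨hz1, τ, hτ, rfl⟩ := Finset.mem_filter.mp hz
      exact Finset.mem_filter.mpr ⟨Multiset.mem_toFinset.mpr (hσroot σ hσ _ (Multiset.mem_toFinset.mp hz1)),
        σ * τ, mul_mem hσ hτ, rfl⟩
    let p : Ks[X] := ∏ z ∈ O', (X - C z)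
    have hp : ∀ i, p.coeff i ∈ L := by
      intro i
      rw [hL]
      refine (IntermediateField.mem_fixedField_iff H _).mpr fun σ hσ => ?_
      have h1 : p.map σ.toAlgHom.toRingHom = p := by
        simp only [p, Polynomial.map_prod, Polynomial.map_sub, map_X, map_C]
        refine Finset.prod_nbij σ (fun z hz => hstabO σ hσ z hz) (fun x _ y _ h => σ.injective h)
          (fun z hz => ?_) fun _ _ => rfl
        exact ⟨σ⁻¹ z, hstabO _ (inv_mem hσ) z hz, σ.apply_symm_apply z⟩
      show σ.toAlgHom.toRingHom (p.coeff i) = p.coeff i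
      rw [← coeff_map, h1]
    obtain ⟨pL, hpL, -, hpLm⟩ := lifts_and_natDegree_eq_and_monic
      ((lifts_iff_coeff_lifts (f := algebraMap L Ks) p).mpr fun i => ⟨⟨_, hp i⟩, rfl⟩) (monic_prod_X_sub_C _ _)
    have hmin : minpoly L (φ b₀) = f.map (algebraMap A L) :=
      (minpoly.eq_of_irreducible_of_monic hfL (by
        rw [aeval_def, eval₂_map, ← eval_map, ← hfs]
        exact (mem_roots'.mp hρ).2) (hf.map _)).symm
    have hdvd : fs ∣ p := by
      have hp0 : aeval (φ b₀) pL = 0 := by
        rw [aeval_def, ← eval_map, hpL, eval_prod]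
        exact Finset.prod_eq_zero (Finset.mem_filter.mpr ⟨Multiset.mem_toFinset.mpr hρ, 1, one_mem H, rfl⟩)
          (by simp)
      have h1 := map_dvd (algebraMap L Ks) (minpoly.dvd L (φ b₀) hp0)
      rwa [hmin, hpL, Polynomial.map_map, ← hfs] at h1
    have hall : ∀ b ∈ m, π b = ā := by
      intro b hb
      have hbr : φ b ∈ fs.roots := by
        obtain ⟨z, -, rfl⟩ := Multiset.mem_map.mp hb
        rw [hlift]; exact z.2
      have h1 : p.eval (φ b) = 0 := eval_eq_zero_of_dvd_of_eval_eq_zero hdvd (mem_roots'.mp hbr).2
      rw [eval_prod, Finset.prod_eq_zero_iff] at h1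
      obtain ⟨z, hz, hz0⟩ := h1
      obtain ⟨-, σ, hσ, rfl⟩ := Finset.mem_filter.mp hz
      exact hstab σ hσ b₀ a₀ hb₀ b (by simpa [sub_eq_zero] using hz0)
    have hpow : f.map (π.comp j) = (X - C ā) ^ Multiset.card m := by
      rw [hfk, Multiset.map_congr rfl (g := fun _ => X - C ā) (fun b hb => by rw [hall b hb]),
        Multiset.map_const', Multiset.prod_replicate]
    have hcard : f.natDegree = 1 := by
      have h1 : (f.map (π.comp j)).natDegree = Multiset.card m := by
        rw [hpow, natDegree_pow, natDegree_X_sub_C, mul_one]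
      rw [hf.natDegree_map] at h1
      have h2 : (f.map (π.comp j)).derivative.eval ā ≠ 0 := by
        rw [derivative_map, show ā = (π.comp j) a₀ from rfl, eval_map, eval₂_hom]
        exact fun h => (mem_maximalIdeal _).mp ((residue_eq_zero_iff _).mp h) (hd.map j)
      rw [hpow, derivative_X_sub_C_pow, eval_mul, eval_pow, eval_sub, eval_X, eval_C, eval_C, sub_self] at h2
      by_contra hne
      rcases Nat.eq_zero_or_pos (Multiset.card m) with hz | hz
      · rw [hz] at h2; simp at h2
      · rw [zero_pow (by omega), mul_zero] at h2; exact h2 rfl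
    obtain ⟨a, rfl⟩ : ∃ a, f = X - C a := ⟨-f.coeff 0, by
      conv_lhs => rw [hf.eq_X_add_C hcard]
      rw [map_neg, sub_neg_eq_add]⟩
    refine ⟨a, by simp, ?_⟩
    rw [← neg_mem_iff, neg_sub]
    simpa using ha

end Groth.L05.DecompHensel

end
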